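import Cfsg.Agent.H824.Sp2.Main
import Cfsg.Agent.H824.Sp2.Code
import Cfsg.Agent.LieClassical.FieldTransfer

/-!
# S3938 (3/2-generation), `Sp_6(2)`, `Sp_8(2)`, `Sp_12(2)` (helper824)

`spr_psp_three`, `spr_psp_four`, `spr_psp_six`: `Spr (PSp m F)`, `|F| = 2`, `m = 3, 4, 6`.
-/

set_option autoImplicit false
set_option maxRecDepth 100000

namespace Cfsg.Agent.H824.Sp2

open Cfsg Cfsg.Agent.ClassicalGeometry.SympBasic Cfsg.Agent.H107.SpTr

/-- the data for `Sp_{6}(2)` -/
def dat_three : Full2 3 where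
  v := 1
  w := 8
  p := 2
  r := 16
  ly := [2, 16, 6, 32]
  k1 := 10
  k2 := 6
  hs := by decide +kernel
  hy := by decide +kernel
  hvw := by decide +kernel
  hpr := by decide +kernel
  hvp := by decide +kernel
  hvr := by decide +kernel
  hwp := by decide +kernel
  hwr := by decide +kernel
  D1 :=
    { W0 := [4, 5, 4, 0, 2, 4, 5]
      e := 3
      a := 43
      W1 := [1, 5]
      L := [[3], [2, 3, 4], [0, 1, 2, 3, 5], [3, 4], [3, 4, 5], [0, 2, 3]]
      W2 := [1, 0]
      W3 := [4, 5]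
      W4 := [0]
      h0 := by decide +kernel
      h1 := by decide +kernel
      hL := by decide +kernel
      h2 := by decide +kernel
      h3 := by decide +kernel
      h4 := by decide +kernel
      h5 := by decide +kernel }
  D2 :=
    { W0 := [0, 1, 5]
      e := 5
      a := 34
      W1 := [0, 1, 2]
      L := [[1, 2, 4, 5], [3, 4], [0, 1, 3, 4, 5], [0, 1, 4], [4], [0, 3, 4]]
      W2 := [1, 1, 2]
      W3 := [3, 2, 4, 5, 4, 0, 2]
      W4 := [1]
      h0 := by decide +kernel
      h1 := by decide +kernel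
      hL := by decide +kernel
      h2 := by decide +kernel
      h3 := by decide +kernel
      h4 := by decide +kernel
      h5 := by decide +kernel }

/-- the data for `Sp_{8}(2)` -/
def dat_four : Full2 4 where
  v := 1
  w := 16
  p := 2
  r := 32
  ly := [2, 32, 6, 64, 12, 128]
  k1 := 7
  k2 := 15
  hs := by decide +kernel
  hy := by decide +kernel
  hvw := by decide +kernel
  hpr := by decide +kernel
  hvp := by decide +kernel
  hvr := by decide +kernel
  hwp := by decide +kernel
  hwr := by decide +kernel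
  D1 :=
    { W0 := [1, 2, 1, 5, 1, 0, 2, 1, 5, 1, 1]
      e := 3
      a := 10
      W1 := [1, 2]
      L := [[1, 3, 4, 7], [2, 3, 5], [1, 2, 3, 4, 6], [0, 2, 3, 5], [0, 1, 2, 4, 6, 7], [3, 4, 6], [2, 5, 6, 7], [1, 2, 5, 6, 7]]
      W2 := [1, 1]
      W3 := [5, 4, 2, 4]
      W4 := [1]
      h0 := by decide +kernel
      h1 := by decide +kernel
      hL := by decide +kernel
      h2 := by decide +kernel
      h3 := by decide +kernel
      h4 := by decide +kernel
      h5 := by decide +kernel }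
  D2 :=
    { W0 := [0, 1, 1, 2]
      e := 15
      a := 110
      W1 := [0, 2, 4, 2]
      L := [[0, 1, 2, 3, 4, 5, 7], [0, 2], [1, 2, 3, 4, 5, 6], [0, 2, 4, 5, 6, 7], [0, 2, 3, 5, 6, 7], [1, 3], [0, 2, 7], [2, 3, 7]]
      W2 := [2, 1]
      W3 := [2, 4, 4, 5, 4]
      W4 := [1]
      h0 := by decide +kernel
      h1 := by decide +kernel
      hL := by decide +kernel
      h2 := by decide +kernel
      h3 := by decide +kernel
      h4 := by decide +kernel
      h5 := by decide +kernel }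

/-- the data for `Sp_{12}(2)` -/
def dat_six : Full2 6 where
  v := 1
  w := 64
  p := 2
  r := 128
  ly := [2, 128, 6, 256, 12, 512, 24, 1024, 48, 2048]
  k1 := 22
  k2 := 12
  hs := by decide +kernel
  hy := by decide +kernel
  hvw := by decide +kernel
  hpr := by decide +kernel
  hvp := by decide +kernel
  hvr := by decide +kernel
  hwp := by decide +kernel
  hwr := by decide +kernel
  D1 :=
    { W0 := [4, 3, 2, 4, 2, 4, 5, 4, 4, 4, 5]
      e := 9
      a := 1773
      W1 := [0, 1]
      L := [[0, 11], [0, 2, 3, 4, 5, 6, 7, 9], [0, 3, 8, 11], [0, 1, 5, 8, 11], [0, 1, 3, 7, 8, 11], [0, 1, 3, 5, 8, 9, 11], [0, 1, 2, 3, 4, 5, 6, 7, 8, 9, 10], [1, 3, 4, 5, 6, 7, 8, 10], [0, 2, 4], [2, 4, 6], [4, 6, 8], [6, 8, 10]]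
      W2 := [1]
      W3 := [4, 4, 4, 2, 1, 1, 2, 1, 1, 1, 1, 1, 5, 4]
      W4 := [0]
      h0 := by decide +kernel
      h1 := by decide +kernel
      hL := by decide +kernel
      h2 := by decide +kernel
      h3 := by decide +kernel
      h4 := by decide +kernel
      h5 := by decide +kernel }
  D2 :=
    { W0 := [0, 1, 2, 4, 5]
      e := 3
      a := 4
      W1 := [0, 1, 2]
      L := [[2, 3, 8, 9], [1, 5, 7, 11], [0], [1, 7, 8], [1, 2, 3, 7, 8, 9, 10], [0, 6], [3, 4, 9, 10], [2, 3, 4, 5, 8, 9, 10, 11], [1, 2, 3, 4, 5, 8, 9, 10, 11], [1, 2, 8, 9], [3, 4, 10, 11], [1, 2, 3, 4, 7, 8, 9, 10, 11]]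
      W2 := [1, 1]
      W3 := [5, 1, 5, 1]
      W4 := [1]
      h0 := by decide +kernel
      h1 := by decide +kernel
      hL := by decide +kernel
      h2 := by decide +kernel
      h3 := by decide +kernel
      h4 := by decide +kernel
      h5 := by decide +kernel }

theorem Full2.spr {m : ℕ} (D : Full2 m) (hm : 3 ≤ m) {F : Type} [Field F] [Fintype F] (hF : Fintype.card F = 2) :
    H424.Spr.Spr (PSp m F) :=
  H424.Spr.Spr.congr ((H500.Gs.toPSp (ZMod 2) m).trans
    (LieClassical.FieldTransfer.pspCongr m (FiniteField.ringEquivOfCardEq (K := ZMod 2) (K' := F)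
      ((ZMod.card 2).trans hF.symm)))) (D.cert.spr hm)

/-- `Sp_6(2)` -/
theorem spr_psp_three {F : Type} [Field F] [Fintype F] (hF : Fintype.card F = 2) : H424.Spr.Spr (PSp 3 F) :=
  dat_three.spr le_rfl hF

/-- `Sp_8(2)` -/
theorem spr_psp_four {F : Type} [Field F] [Fintype F] (hF : Fintype.card F = 2) : H424.Spr.Spr (PSp 4 F) :=
  dat_four.spr (by norm_num) hF

/-- `Sp_12(2)` -/
theorem spr_psp_six {F : Type} [Field F] [Fintype F] (hF : Fintype.card F = 2) : H424.Spr.Spr (PSp 6 F) :=
  dat_six.spr (by norm_num) hF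

end Cfsg.Agent.H824.Sp2
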