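import Cfsg.Agent.H824.Sp2.Red

/-!
# S3938 (3/2-generation), `Sp_{2m}(2)`: `Spr` from the certificates (helper824)
-/

set_option autoImplicit false

namespace Cfsg.Agent.H824.Sp2

open Cfsg Cfsg.Agent.ClassicalGeometry.SympBasic Cfsg.Agent.H107.SpTr

variable {m : ℕ}

local notation "⟪" u ", " v "⟫" => Cfsg.sympForm m (ZMod 2) u v

open H862.Spr (Body)

theorem sq_eq_one {g : G m} (h : ∀ w : V m, ⟪w, act g w⟫ = 0) : ∀ w, act g (act g w) = w := by
  have h1 : ∀ u v : V m, ⟪u, act g v⟫ = ⟪v, act g u⟫ := by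
    intro u v
    have h2 := h (u + v)
    rw [act_add, sympForm_add_left, sympForm_add_right, sympForm_add_right, h u, h v, zero_add, add_zero] at h2
    rw [← CharTwo.sub_eq_add, sub_eq_zero] at h2
    exact h2
  intro w
  refine eq_of_forall_sympForm_left fun z => ?_
  rw [h1 z (act g w), form_act, swap]

/-- no nonzero fixed vector, order not 3 -/
theorem Cert.body_free (C : Cert m) {g : G m} {p : ℕ} (hp : p.Prime) (hgp : g ^ p = 1) (hp3 : p ≠ 3) (hg : g ≠ 1)
    (hf : ∀ w : V m, act g w = w → w = 0) : Body (MulAut.conj g) := by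
  obtain ⟨w, hw⟩ : ∃ w : V m, ⟪w, act g w⟫ = 1 := by
    by_contra h
    push Not at h
    have h1 := sq_eq_one fun w => z0 (h w)
    apply hg
    refine ext_act fun w => ?_
    rw [act_one]
    have h2 := hf (w + act g w) (by rw [act_add, h1, add_comm])
    have := vadd2 w (act g w)
    rw [h2, add_zero] at this
    exact this.symm
  have hw0 : w ≠ 0 := by
    rintro rfl
    rw [sympForm_zero_left] at hw
    exact n10 hw.symm
  have hw1 : act g w ≠ 0 := by
    intro h
    rw [h, sympForm_zero_right] at hw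
    exact n10 hw.symm
  refine C.body_one' (v := w) (w := act g w) (x := act g (act g w)) hw ?_ ?_ ?_ ?_
  · rw [form_act, swap, hw]
  · intro h
    have h2 := hf (w + act g w) (by rw [act_add, h, add_comm])
    have := vadd2 w (act g w)
    rw [h2, add_zero] at this
    rw [← this, sympForm_self] at hw
    exact n10 hw.symm
  · intro h
    have h3 : act (g ^ 3) w = w := by
      have e : g ^ 3 = g * g * g := by rw [pow_succ, pow_two]
      rw [e, act_mul, act_mul, h, act_add, h, add_comm w, ← add_assoc, vadd, zero_add]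
    have h4 : ∀ n : ℕ, act (g ^ (3 * n)) w = w := by
      intro n
      induction n with
      | zero => rw [mul_zero, pow_zero, act_one]
      | succ n ih => rw [mul_add, mul_one, pow_add, act_mul, h3, ih]
    have hco : Nat.Coprime 3 p := (Nat.coprime_primes Nat.prime_three hp).2 (Ne.symm hp3)
    obtain ⟨n, hn⟩ := Nat.exists_mul_mod_eq_one_of_coprime hco hp.one_lt
    have h5 := h4 n
    rw [← Nat.div_add_mod (3 * n) p, hn.2, pow_add, pow_mul, hgp, one_pow, one_mul, pow_one] at h5
    exact hw0 (hf w h5)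
  · intro K hK hs
    have h1 := hK _ hs
    rw [conj_tr2] at h1
    have h2 := K.inv_mem h1
    rwa [mul_inv_rev, tr_inv, tr_inv] at h2

theorem exists_perp (hm : 2 ≤ m) {w : V m} (hw : w ≠ 0) : ∃ w' : V m, w' ≠ 0 ∧ w' ≠ w ∧ ⟪w, w'⟫ = 0 := by
  obtain ⟨v, hv⟩ : ∃ v, ⟪v, w⟫ = 1 := by
    by_contra h
    push Not at h
    exact hw (eq_zero_of_forall_sympForm_left fun z => z0 (h z))
  classical
  have hcard : ({0, w, v, w + v} : Finset (V m)).card < Fintype.card (V m) := by
    refine lt_of_le_of_lt (Finset.card_le_four) ?_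
    rw [Fintype.card_fun, Fintype.card_sum, Fintype.card_fin, ZMod.card]
    calc 4 < 2 ^ (2 + 2) := by norm_num
      _ ≤ 2 ^ (m + m) := Nat.pow_le_pow_right (by norm_num) (by omega)
  obtain ⟨y, hy⟩ : ∃ y, y ∉ ({0, w, v, w + v} : Finset (V m)) := by
    by_contra h
    push Not at h
    have := Finset.card_le_card (fun x (_ : x ∈ (Finset.univ : Finset (V m))) => h x)
    rw [Finset.card_univ] at this
    omega
  simp only [Finset.mem_insert, Finset.mem_singleton, not_or] at hy
  rcases zor ⟪w, y⟫ with h | h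
  · exact ⟨y, hy.1, hy.2.1, h⟩
  · refine ⟨y + v, ?_, ?_, ?_⟩
    · intro h0
      apply hy.2.2.1
      have := congrArg (· + v) h0
      simpa only [add_assoc, vadd, add_zero, zero_add] using this
    · intro h0
      apply hy.2.2.2
      have := congrArg (· + v) h0
      simpa only [add_assoc, vadd, add_zero] using this
    · rw [sympForm_add_right, h, swap w v, hv, o2]

/-- `g² + g + 1 = 0` -/
theorem Cert.body_three (C : Cert m) (hm : 2 ≤ m) {g : G m} (hg : ∀ w : V m, act g (act g w) = w + act g w) :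
    Body (MulAut.conj g) := by
  have hinv : ∀ u v : V m, ⟪act g u, v⟫ = ⟪u, v⟫ + ⟪u, act g v⟫ := by
    intro u v
    rw [← form_act g (act g u) v, hg, sympForm_add_left, form_act, add_comm]
  have hq : ∀ u v : V m, ⟪u + v, act g (u + v)⟫ = ⟪u, act g u⟫ + ⟪v, act g v⟫ + ⟪u, v⟫ := by
    intro u v
    rw [act_add, sympForm_add_left, sympForm_add_right, sympForm_add_right, swap v (act g u), hinv]
    have h := CharTwo.add_self_eq_zero ⟪u, act g v⟫
    linear_combination h
  obtain ⟨v, hv0, hv⟩ : ∃ v : V m, v ≠ 0 ∧ ⟪v, act g v⟫ = 0 := by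
    obtain ⟨a, ha⟩ : ∃ a : V m, a ≠ 0 := by
      refine ⟨Pi.single (Sum.inl ⟨0, by omega⟩) 1, fun h => ?_⟩
      have := congrFun h (Sum.inl ⟨0, by omega⟩)
      rw [Pi.single_eq_same] at this
      exact n10 this
    obtain ⟨b, hb, hba, hab⟩ := exists_perp hm ha
    rcases zor ⟪a, act g a⟫ with h1 | h1
    · exact ⟨a, ha, h1⟩
    rcases zor ⟪b, act g b⟫ with h2 | h2
    · exact ⟨b, hb, h2⟩
    refine ⟨a + b, fun h => hba ?_, ?_⟩
    · have := vadd2 a b
      rw [h, add_zero] at this
      exact this.symm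
    · rw [hq, h1, h2, hab, o2, add_zero]
  have hgv : act g v ≠ 0 := fun h => hv0 (act_inj g (h.trans (act_zero g).symm))
  obtain ⟨x, hx1, hx2⟩ := exists_both_ne_zero hv0 hgv
  have hx3 := z1 hx1
  have hx4 : ⟪v, act g x⟫ = 0 := by
    have := hinv v x
    rw [z1 hx2, hx3] at this
    exact (left_eq_add.1 this)
  obtain ⟨w, hw1, hw2, hw3⟩ : ∃ w : V m, ⟪v, w⟫ = 1 ∧ ⟪v, act g w⟫ = 0 ∧ ⟪w, act g w⟫ = 0 := by
    rcases zor ⟪x, act g x⟫ with h | h
    · exact ⟨x, hx3, hx4, h⟩
    · refine ⟨x + v, ?_, ?_, ?_⟩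
      · rw [sympForm_add_right, sympForm_self, add_zero, hx3]
      · rw [act_add, sympForm_add_right, hx4, hv, add_zero]
      · rw [hq, h, hv, swap x v, hx3, add_zero, o2]
  have hT : Two v w (v + act g v) (act g w) := by
    refine ⟨hw1, ?_, ?_, hw2, ?_, hw3⟩
    · rw [sympForm_add_left, hw2, form_act, hw1, zero_add]
    · rw [sympForm_add_right, sympForm_self, hv, add_zero]
    · rw [sympForm_add_right, swap w v, hw1, swap w (act g v), hinv, hw1, hw2, add_zero, o2]
  refine C.body_two hT ?_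
  rw [conj_tr2, vadd2]

/-- **`Spr` from the certificates** -/
theorem Cert.spr (C : Cert m) (hm : 3 ≤ m) : H424.Spr.Spr (G m) := by
  refine H862.Spr.spr_of_prime fun a ha => ?_
  obtain ⟨g, rfl⟩ := H500.Gs.exists_conj (F := ZMod 2) (ZMod.card 2) inferInstance hm a
  have hinj := H500.Gs.conj_inj_of_center (H500.Gs.center_bot (F := ZMod 2) m)
  have hgp : g ^ orderOf (MulAut.conj g) = 1 := by
    apply hinj
    rw [map_pow, pow_orderOf_eq_one, map_one]
  have hg : g ≠ 1 := by
    rintro rfl
    rw [map_one, orderOf_one] at ha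
    exact ha.one_lt.ne rfl
  by_cases hfix : ∃ w : V m, w ≠ 0 ∧ act g w = w
  · obtain ⟨w, hw, hgw⟩ := hfix
    exact C.body_fix (by omega) hg hw hgw
  push Not at hfix
  have hf : ∀ w : V m, act g w = w → w = 0 := fun w h => by
    by_contra h0
    exact hfix w h0 h
  by_cases hp3 : orderOf (MulAut.conj g) = 3
  · rw [hp3] at hgp
    refine C.body_three (by omega) fun w => ?_
    have h1 : act g (act g (act g w)) = w := by
      rw [← act_mul, ← act_mul, ← pow_two, ← pow_succ, hgp, act_one]
    have h2 := hf (w + act g w + act g (act g w)) (by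
      rw [act_add, act_add, h1]
      abel)
    have h3 := vadd2 (w + act g w) (act g (act g w))
    rw [h2, add_zero] at h3
    exact h3.symm
  · exact C.body_free ha hgp hp3 hg hf

end Cfsg.Agent.H824.Sp2
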