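import Cfsg.Agent.H107.SpTr
import Cfsg.Agent.H91.Symp
import Cfsg.Agent.H500.Gs.SpTwo
import Cfsg.Agent.H862.Spr.ULTwo

/-!
# S3938 (3/2-generation), `Sp_{2m}(2)`: reduction to two certificates (helper824)

`s = t_v t_w`, `h(v, w) = 1`, is an element of order 3 of the plane `⟨v, w⟩`.  Let `g ≠ 1` of prime order.

* Configuration I: `t_v t_w ↦ (t_{v+u} t_w)^{±1}`, `u ≠ 0` orthogonal to `v, w` : exists if `g` fixes a nonzero vector and if
  the order of `g` is not 3.
* Configuration II: `t_v t_w ↦ t_{v+p} t_r`, `(v, w), (p, r)` orthogonal hyperbolic pairs : exists if `g² + g + 1 = 0`.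
-/

set_option autoImplicit false

namespace Cfsg.Agent.H824.Sp2

open Cfsg Cfsg.Agent.ClassicalGeometry.SympBasic Cfsg.Agent.H107.SpTr

variable {m : ℕ}

abbrev V (m : ℕ) := Fin m ⊕ Fin m → ZMod 2

abbrev G (m : ℕ) := Matrix.symplecticGroup (Fin m) (ZMod 2)

local notation "⟪" u ", " v "⟫" => Cfsg.sympForm m (ZMod 2) u v

theorem zor (a : ZMod 2) : a = 0 ∨ a = 1 := by
  revert a
  decide

theorem z1 {a : ZMod 2} (h : a ≠ 0) : a = 1 := (zor a).resolve_left h

theorem z0 {a : ZMod 2} (h : a ≠ 1) : a = 0 := (zor a).resolve_right h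

theorem o2 : (1 : ZMod 2) + 1 = 0 := by decide

theorem n10 : (1 : ZMod 2) ≠ 0 := by decide

theorem swap (u v : V m) : ⟪u, v⟫ = ⟪v, u⟫ := by
  rw [sympForm_swap, CharTwo.neg_eq]

theorem vadd (u : V m) : u + u = 0 := by
  funext i
  exact CharTwo.add_self_eq_zero _

theorem vadd2 (u v : V m) : u + (u + v) = v := by
  rw [← add_assoc, vadd, zero_add]

/-- transvections -/
abbrev tr (v : V m) : G m := transv v 1

theorem tr_sq (v : V m) : tr v * tr v = 1 := by
  rw [transv_mul, o2, transv_zero]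

theorem tr_inv (v : V m) : (tr v)⁻¹ = tr v := inv_eq_of_mul_eq_one_left (tr_sq v)

theorem act_tr (v x : V m) : act (tr v) x = x + ⟪x, v⟫ • v := by
  rw [act_transv, one_mul]

theorem conj_tr (g : G m) (v : V m) : g * tr v * g⁻¹ = tr (act g v) := conj_transv g v 1

theorem conj_tr2 (g : G m) (v w : V m) : g * (tr v * tr w) * g⁻¹ = tr (act g v) * tr (act g w) := by
  rw [← conj_tr, ← conj_tr]
  group

/-- `t_{a+b} t_b = (t_a t_b)⁻¹` if `h(a, b) = 1` -/
theorem tr_add {a b : V m} (h : ⟪a, b⟫ = 1) : tr (a + b) * tr b = tr b * tr a := by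
  have h1 : tr b * tr a * (tr b)⁻¹ = tr (a + b) := by
    rw [conj_tr, act_tr, h, one_smul]
  rw [← h1, inv_mul_cancel_right]

/-- two orthogonal hyperbolic pairs -/
structure Two (v w p r : V m) : Prop where
  vw : ⟪v, w⟫ = 1
  pr : ⟪p, r⟫ = 1
  vp : ⟪v, p⟫ = 0
  vr : ⟪v, r⟫ = 0
  wp : ⟪w, p⟫ = 0
  wr : ⟪w, r⟫ = 0

theorem sform : H91.Symp.SForm (sympBilin m (ZMod 2)) := ⟨sympBilin_nondegenerate, sympBilin_isAlt⟩

theorem Two.li {v w p r : V m} (h : Two v w p r) : LinearIndependent (ZMod 2) ![v, w, p, r] := by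
  rw [Fintype.linearIndependent_iff]
  intro g hg
  rw [Fin.sum_univ_four] at hg
  change g 0 • v + g 1 • w + g 2 • p + g 3 • r = 0 at hg
  have key : ∀ x : V m, g 0 * ⟪v, x⟫ + g 1 * ⟪w, x⟫ + g 2 * ⟪p, x⟫ + g 3 * ⟪r, x⟫ = 0 := by
    intro x
    have h1 := congrArg (fun y => ⟪y, x⟫) hg
    simp only [sympForm_add_left, sympForm_smul_left, sympForm_zero_left] at h1
    exact h1
  have k1 := key w
  have k2 := key v
  have k3 := key r
  have k4 := key p
  rw [h.vw, sympForm_self, swap p w, h.wp, swap r w, h.wr] at k1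
  rw [sympForm_self, swap w v, h.vw, swap p v, h.vp, swap r v, h.vr] at k2
  rw [h.vr, h.wr, h.pr, sympForm_self] at k3
  rw [h.vp, h.wp, sympForm_self, swap r p, h.pr] at k4
  simp only [mul_zero, mul_one, add_zero, zero_add] at k1 k2 k3 k4
  intro i
  fin_cases i
  · exact k1
  · exact k2
  · exact k3
  · exact k4

/-- **Witt** -/
theorem Two.witt {v w p r v' w' p' r' : V m} (h : Two v w p r) (h' : Two v' w' p' r') :
    ∃ A : G m, act A v = v' ∧ act A w = w' ∧ act A p = p' ∧ act A r = r' := by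
  obtain ⟨g, hg, hg'⟩ := H91.Symp.witt_family (sform (m := m)) h.li h'.li (by
    intro i j
    change ⟪_, _⟫ = ⟪_, _⟫
    have e1 := h.vw
    have e2 := h'.vw
    fin_cases i <;> fin_cases j
    · exact (sympForm_self v).trans (sympForm_self v').symm
    · exact h.vw.trans h'.vw.symm
    · exact h.vp.trans h'.vp.symm
    · exact h.vr.trans h'.vr.symm
    · exact (swap w v).trans (h.vw.trans (h'.vw.symm.trans (swap _ _)))
    · exact (sympForm_self w).trans (sympForm_self w').symm
    · exact h.wp.trans h'.wp.symm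
    · exact h.wr.trans h'.wr.symm
    · exact (swap p v).trans (h.vp.trans (h'.vp.symm.trans (swap _ _)))
    · exact (swap p w).trans (h.wp.trans (h'.wp.symm.trans (swap _ _)))
    · exact (sympForm_self p).trans (sympForm_self p').symm
    · exact h.pr.trans h'.pr.symm
    · exact (swap r v).trans (h.vr.trans (h'.vr.symm.trans (swap _ _)))
    · exact (swap r w).trans (h.wr.trans (h'.wr.symm.trans (swap _ _)))
    · exact (swap r p).trans (h.pr.trans (h'.pr.symm.trans (swap _ _)))
    · exact (sympForm_self r).trans (sympForm_self r').symm)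
  have hmem : LinearMap.toMatrix' (g : V m →ₗ[ZMod 2] V m) ∈ Matrix.symplecticGroup (Fin m) (ZMod 2) := by
    rw [mem_symplecticGroup_iff]
    intro u w
    rw [LinearMap.toMatrix'_mulVec, LinearMap.toMatrix'_mulVec]
    exact hg u w
  have hact : ∀ x, act (⟨_, hmem⟩ : G m) x = g x := fun x => LinearMap.toMatrix'_mulVec _ _
  refine ⟨⟨_, hmem⟩, ?_, ?_, ?_, ?_⟩
  · rw [hact]
    exact hg' 0
  · rw [hact]
    exact hg' 1
  · rw [hact]
    exact hg' 2
  · rw [hact]
    exact hg' 3

/-- the data: an element `x` with a power `t_v t_w` and the two certificates -/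
structure Cert (m : ℕ) where
  v : V m
  w : V m
  p : V m
  r : V m
  two : Two v w p r
  x : G m
  k : ℕ
  pow : x ^ k = tr v * tr w
  c1 : ∀ K : Subgroup (G m), x ∈ K → tr (v + p) * tr w ∈ K → K = ⊤
  c2 : ∀ K : Subgroup (G m), x ∈ K → tr (v + p) * tr r ∈ K → K = ⊤

open H862.Spr (Body)

/-- configuration II -/
theorem Cert.body_two (C : Cert m) {g : G m} {v w p r : V m} (h : Two v w p r)
    (hg : g * (tr v * tr w) * g⁻¹ = tr (v + p) * tr r) : Body (MulAut.conj g) := by
  obtain ⟨A, h1, h2, h3, h4⟩ := C.two.witt h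
  refine ⟨A * C.x * A⁻¹, fun K hK hinv => ?_⟩
  have hs : tr v * tr w ∈ K := by
    have := K.pow_mem hK C.k
    rwa [conj_pow, C.pow, conj_tr2, h1, h2] at this
  have hs' := hinv _ hs
  rw [MulAut.conj_apply, hg] at hs'
  have htop := C.c2 (K.comap (MulAut.conj A).toMonoidHom) hK (by
    change A * (tr (C.v + C.p) * tr C.r) * A⁻¹ ∈ K
    rwa [conj_tr2, act_add, h1, h3, h4])
  rw [eq_top_iff]
  intro y _
  have h5 : A⁻¹ * y * A ∈ K.comap (MulAut.conj A).toMonoidHom := by
    rw [htop]
    trivial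
  have h6 : A * (A⁻¹ * y * A) * A⁻¹ ∈ K := h5
  rwa [show A * (A⁻¹ * y * A) * A⁻¹ = y by group] at h6

/-- configuration I -/
theorem Cert.body_one (C : Cert m) {g : G m} {v w u : V m} (hvw : ⟪v, w⟫ = 1) (hu : u ≠ 0) (huv : ⟪v, u⟫ = 0)
    (huw : ⟪w, u⟫ = 0) (hg : ∀ K : Subgroup (G m), (∀ k ∈ K, g * k * g⁻¹ ∈ K) → tr v * tr w ∈ K →
      tr (v + u) * tr w ∈ K) : Body (MulAut.conj g) := by
  obtain ⟨r', hr'⟩ : ∃ r', ⟪u, r'⟫ ≠ 0 := by
    by_contra h
    push Not at h
    exact hu (eq_zero_of_forall_sympForm_right h)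
  have h : Two v w u (r' + ⟪v, r'⟫ • w + ⟪w, r'⟫ • v) := by
    refine ⟨hvw, ?_, huv, ?_, huw, ?_⟩
    · rw [sympForm_add_right, sympForm_add_right, sympForm_smul_right, sympForm_smul_right, swap u w, huw, swap u v, huv,
        mul_zero, mul_zero, add_zero, add_zero]
      exact z1 hr'
    · rw [sympForm_add_right, sympForm_add_right, sympForm_smul_right, sympForm_smul_right, hvw, sympForm_self,
        mul_one, mul_zero, add_zero]
      exact CharTwo.add_self_eq_zero _
    · rw [sympForm_add_right, sympForm_add_right, sympForm_smul_right, sympForm_smul_right, swap w v, hvw, sympForm_self,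
        mul_one, mul_zero, add_zero]
      exact CharTwo.add_self_eq_zero _
  obtain ⟨A, h1, h2, h3, h4⟩ := C.two.witt h
  refine ⟨A * C.x * A⁻¹, fun K hK hinv => ?_⟩
  have hs : tr v * tr w ∈ K := by
    have := K.pow_mem hK C.k
    rwa [conj_pow, C.pow, conj_tr2, h1, h2] at this
  have hs' := hg K hinv hs
  have htop := C.c1 (K.comap (MulAut.conj A).toMonoidHom) hK (by
    change A * (tr (C.v + C.p) * tr C.w) * A⁻¹ ∈ K
    rwa [conj_tr2, act_add, h1, h2, h3])
  rw [eq_top_iff]
  intro y _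
  have h5 : A⁻¹ * y * A ∈ K.comap (MulAut.conj A).toMonoidHom := by
    rw [htop]
    trivial
  have h6 : A * (A⁻¹ * y * A) * A⁻¹ ∈ K := h5
  rwa [show A * (A⁻¹ * y * A) * A⁻¹ = y by group] at h6

/-- configuration I, second form -/
theorem Cert.body_one' (C : Cert m) {g : G m} {v w x : V m} (hvw : ⟪v, w⟫ = 1) (hxw : ⟪x, w⟫ = 1) (h1 : x ≠ v)
    (h2 : x ≠ v + w) (hg : ∀ K : Subgroup (G m), (∀ k ∈ K, g * k * g⁻¹ ∈ K) → tr v * tr w ∈ K →
      tr x * tr w ∈ K) : Body (MulAut.conj g) := by
  rcases zor ⟪v, x⟫ with h | h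
  · refine C.body_one (u := v + x) hvw ?_ ?_ ?_ ?_
    · intro h0
      apply h1
      have := vadd2 v x
      rw [h0, add_zero] at this
      exact this.symm
    · rw [sympForm_add_right, sympForm_self, h, add_zero]
    · rw [sympForm_add_right, swap w v, hvw, swap w x, hxw, o2]
    · rw [vadd2]
      exact hg
  · refine C.body_one (u := v + (x + w)) hvw ?_ ?_ ?_ ?_
    · intro h0
      apply h2
      have := vadd2 v (x + w)
      rw [h0, add_zero] at this
      rw [this, add_assoc, vadd, add_zero]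
    · rw [sympForm_add_right, sympForm_self, sympForm_add_right, h, hvw, o2, add_zero]
    · rw [sympForm_add_right, swap w v, hvw, sympForm_add_right, sympForm_self, add_zero, swap w x, hxw, o2]
    · rw [vadd2]
      intro K hK hs
      rw [tr_add hxw, ← tr_inv w, ← tr_inv x, ← mul_inv_rev]
      exact K.inv_mem (hg K hK hs)

/-- `g` fixes a nonzero vector -/
theorem Cert.body_fix (C : Cert m) (hm : 2 ≤ m) {g : G m} (hg : g ≠ 1) {w : V m} (hw : w ≠ 0) (hgw : act g w = w) :
    Body (MulAut.conj g) := by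
  have key : ∀ w : V m, act g w = w → ∀ v : V m, ⟪v, w⟫ = 1 → act g v ≠ v → act g v ≠ v + w →
      Body (MulAut.conj g) := by
    intro w hgw v hvw h1 h2
    refine C.body_one' (v := v) (w := w) (x := act g v) hvw ?_ h1 h2 ?_
    · rw [← hvw, ← form_act g v w, hgw]
    · intro K hK hs
      have := hK _ hs
      rwa [conj_tr2, hgw] at this
  by_contra hcon
  have h1 : ∀ v : V m, ⟪v, w⟫ = 1 → act g v = v ∨ act g v = v + w := by
    intro v hv
    by_contra h
    push Not at h
    exact hcon (key w hgw v hv h.1 h.2)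
  obtain ⟨v, hv⟩ : ∃ v, ⟪v, w⟫ = 1 := by
    by_contra h
    push Not at h
    exact hw (eq_zero_of_forall_sympForm_left fun z => z0 (h z))
  have h2 : ∀ z : V m, act g z = z ∨ act g z = z + w := by
    intro z
    rcases zor ⟪z, w⟫ with h | h
    · have h3 : ⟪z + v, w⟫ = 1 := by rw [sympForm_add_left, h, hv, zero_add]
      have h4 : act g z = act g (z + v) + act g v := by
        rw [act_add, add_assoc, vadd, add_zero]
      rcases h1 _ h3 with h5 | h5 <;> rcases h1 _ hv with h6 | h6 <;> rw [h5, h6] at h4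
      · left
        rw [h4, add_assoc, vadd, add_zero]
      · right
        rw [h4, ← add_assoc, add_assoc z, vadd, add_zero]
      · right
        rw [h4, add_assoc, add_comm w, ← add_assoc, add_assoc z, vadd, add_zero]
      · left
        rw [h4, add_assoc z, add_assoc z, vadd, add_zero]
    · exact h1 z h
  have h3 : ∀ z z' : V m, act g z = z + w → act g z' = z' → ⟪w, z'⟫ = 0 := by
    intro z z' hz hz'
    have h4 := form_act g z z'
    rw [hz, hz', sympForm_add_left] at h4
    exact left_eq_add.1 (h4.symm.trans (by rw [])) |> fun h => h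
  obtain ⟨z, hz⟩ : ∃ z, act g z ≠ z := by
    by_contra h
    push Not at h
    exact hg (ext_act fun x => by rw [h x, act_one])
  have hz' := (h2 z).resolve_left hz
  have h4 : ∀ z' : V m, ⟪w, z'⟫ = 1 → act g z' = z' + w := by
    intro z' h
    refine (h2 z').resolve_left fun h5 => ?_
    rw [h3 z z' hz' h5] at h
    exact n10 h.symm
  have h5 : ∀ z' : V m, ⟪w, z'⟫ = 0 → act g z' = z' := by
    intro z' h
    have h6 : ⟪w, z' + v⟫ = 1 := by rw [sympForm_add_right, h, swap w v, hv, zero_add]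
    have h7 : act g z' = act g (z' + v) + act g v := by
      rw [act_add, add_assoc, vadd, add_zero]
    rw [h7, h4 _ h6, h4 v (by rw [swap, hv]), add_assoc, ← add_assoc w, add_comm w v, add_assoc v, vadd, add_zero,
      add_assoc, vadd, add_zero]
  obtain ⟨w', hw1, hw2, hw3⟩ : ∃ w' : V m, w' ≠ 0 ∧ w' ≠ w ∧ ⟪w, w'⟫ = 0 := by
    classical
    have hcard : ({0, w, v, w + v} : Finset (V m)).card < Fintype.card (V m) := by
      refine lt_of_le_of_lt (Finset.card_le_four) ?_
      rw [Fintype.card_fun, Fintype.card_sum, Fintype.card_fin, ZMod.card]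
      calc 4 < 2 ^ (2 + 2) := by norm_num
        _ ≤ 2 ^ (m + m) := Nat.pow_le_pow_right (by norm_num) (by omega)
    obtain ⟨y, hy⟩ : ∃ y, y ∉ ({0, w, v, w + v} : Finset (V m)) := by
      by_contra h
      push Not at h
      have := Finset.card_le_card (fun x (_ : x ∈ (Finset.univ : Finset (V m))) => h x)
      rw [Finset.card_univ] at this
      omega
    simp only [Finset.mem_insert, Finset.mem_singleton, not_or] at hy
    rcases zor ⟪w, y⟫ with h | h
    · exact ⟨y, hy.1, hy.2.1, h⟩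
    · refine ⟨y + v, ?_, ?_, ?_⟩
      · intro h0
        apply hy.2.2.1
        have := congrArg (· + v) h0
        simpa only [add_assoc, vadd, add_zero, zero_add] using this
      · intro h0
        apply hy.2.2.2
        have := congrArg (· + v) h0
        simpa only [add_assoc, vadd, add_zero] using this
      · rw [sympForm_add_right, h, swap w v, hv, o2]
  obtain ⟨x, hx1, hx2⟩ := exists_both_ne_zero hw1 hw
  have hx1' : ⟪x, w'⟫ = 1 := by rw [swap]; exact z1 hx1
  refine hcon (key w' (h5 w' hw3) x hx1' ?_ ?_)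
  · rw [h4 x (z1 hx2)]
    intro h
    exact hw (left_eq_add.1 h.symm)
  · rw [h4 x (z1 hx2)]
    intro h
    exact hw2 (add_left_cancel h).symm

end Cfsg.Agent.H824.Sp2
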